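import Cfsg.Agent.TH.Cl.TorLU.Mon

/-!
# S3541, frames of 1-spaces: the cases (helper42)

* `Mx.half` (`p ≥ 5`) : the frames moved on two points with norms `(1/2, 1/2)` and `(2, -1)` have orbits of different lengths;
* `Mx.three`, `Mx.two` : a product of two such moves has a rigid pattern;
* `Mx.lin` : a transvection (`C = K × K`, `p = 2`);
* `Mx.four`, `Mx.five` : `C = 𝔽₄`.
-/

set_option autoImplicit false
set_option linter.unusedSectionVars false

namespace Cfsg.Agent.TH.Cl.TorLU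

open Cfsg.Agent.DS.Cl Matrix Sum

variable {κ C : Type} [Fintype κ] [DecidableEq κ] [CommRing C] [StarRing C] [Nontrivial C]

/-- a move on two points -/
def mv2 (α β : C) : Matrix (Fin 2) (Fin 2) C := !![α, β; -star β, star α]

theorem mv2_uni {α β : C} (h : α * star α + β * star β = 1) : mv2 α β * star (mv2 α β) = 1 := by
  ext a b
  fin_cases a <;> fin_cases b <;> simp [mv2, mul_apply, Fin.sum_univ_two, star_apply] <;>
    first | linear_combination h | ring

theorem mv2_Mv {α β : C} (h : α * β ≠ 0) (a : Fin 2) : Mv (mv2 α β) a := by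
  fin_cases a
  · exact ⟨1, 0, by decide, by simpa [mv2] using h⟩
  · refine ⟨0, 0, by decide, fun e => h (star_eq_zero.1 ?_)⟩
    simp [mv2] at e
    rwa [star_mul]

/-- a symmetric matrix on the first two points -/
def sm2 (κ : Type) (s w t : C) : Matrix (Fin 2 ⊕ κ) (Fin 2 ⊕ κ) C := fromBlocks !![s, w; star w, t] 0 0 0

theorem bk_mv2_zero (α β : C) :
    bk κ (mv2 α β) * E C (inl 0) * star (bk κ (mv2 α β)) = sm2 κ (α * star α) (-(α * β)) (β * star β) := by
  ext a b
  rw [bk_apply]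
  rcases a with a | a <;> rcases b with b | b
  · fin_cases a <;> fin_cases b <;> simp [bk, mv2, sm2, mul_comm]
  all_goals simp [bk, sm2]

theorem bk_mv2_one {α β : C} (h : α * star α + β * star β = 1) :
    bk κ (mv2 α β) * E C (inl 1) * star (bk κ (mv2 α β)) =
      eW (Fin 2) κ C - sm2 κ (α * star α) (-(α * β)) (β * star β) := by
  ext a b
  rw [bk_apply]
  rcases a with a | a <;> rcases b with b | b
  · fin_cases a <;> fin_cases b <;> simp [bk, mv2, sm2, eW, mul_comm] <;> linear_combination h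
  all_goals simp [bk, sm2, eW]

theorem eq_sm2 {f : Matrix (Fin 2 ⊕ κ) (Fin 2 ⊕ κ) C} (h1 : eW (Fin 2) κ C * f = f) (h2 : star f = f) :
    f = sm2 κ (f (inl 0) (inl 0)) (f (inl 0) (inl 1)) (f (inl 1) (inl 1)) := by
  have h3 : ∀ a b, f (inr a) b = 0 := fun a b => by
    rw [← h1]
    simp [eW, mul_apply]
  have h4 : ∀ a b, f a b = star (f b a) := fun a b => by
    conv_lhs => rw [← h2, star_apply]
  ext a b
  rcases a with a | a <;> rcases b with b | b
  · fin_cases a <;> fin_cases b <;> simp [sm2]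
    exact h4 _ _
  · rw [h4, h3]
    simp [sm2]
  all_goals simp [sm2, h3]

/-- the diagonal entries of the torus -/
def td (z : κ) (a : unitary C) : Fin 2 ⊕ κ → C := Pi.mulSingle (inl 0) (a : C) * Pi.mulSingle (inr z) (star (a : C))

theorem td_uni (z : κ) (a : unitary C) (x : Fin 2 ⊕ κ) : td z a x * star (td z a x) = 1 := by
  by_cases h1 : x = inl 0
  · simp [td, h1]
  by_cases h2 : x = inr z
  · simp [td, h2]
  · simp [td, h1, h2]

/-- the torus -/
def tor (z : κ) : unitary C →* RingAut (Matrix (Fin 2 ⊕ κ) (Fin 2 ⊕ κ) C) := MonoidHom.mk'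
  (fun a => cu (diagonal (td z a)) (diag_uni (td_uni z a))) fun a b => by
    have h : ∀ x, td z (a * b) x = td z a x * td z b x := fun x => by
      simp only [td, Submonoid.coe_mul, star_mul', Pi.mulSingle_mul, Pi.mul_apply]
      ring
    ext f x y
    rw [ra_mul, cj_un, cj_un, cj_un, diag_apply, diag_apply, diag_apply, h, h, star_mul']
    ring

theorem tor_apply (z : κ) (a : unitary C) (f : Matrix (Fin 2 ⊕ κ) (Fin 2 ⊕ κ) C) :
    tor z a f = diagonal (td z a) * f * star (diagonal (td z a)) := rfl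

theorem tor_E (z : κ) (a : unitary C) (l : Fin 2 ⊕ κ) : tor z a (E C l) = E C l := diag_E (td_uni z a) l

theorem tor_sm2 (z : κ) (a : unitary C) (s w t : C) : tor z a (sm2 κ s w t) = sm2 κ s (a * w) t := by
  ext x y
  rw [tor_apply, diag_apply]
  rcases x with x | x <;> rcases y with y | y
  · fin_cases x <;> fin_cases y <;> simp [sm2, td]
    · rw [mul_right_comm]
      simp
    · exact mul_comm _ _
  all_goals simp [sm2]

namespace Mx

variable [Finite C] {m p : ℕ}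

theorem tor_mem {G H : Subgroup (RingAut (Matrix (Fin 2 ⊕ κ) (Fin 2 ⊕ κ) C))} (c : Mx (Fin 2 ⊕ κ) C G H m p) (z : κ)
    (a : unitary C) : tor z a ∈ G :=
  c.su _ _ (by rw [det_diagonal]; simp [td, Finset.prod_mul_distrib])

/-- `p ≥ 5` -/
theorem half {G H : Subgroup (RingAut (Matrix (Fin 2 ⊕ κ) (Fin 2 ⊕ κ) C))} (c : Mx (Fin 2 ⊕ κ) C G H m p) (z : κ)
    {α β δ : C} (hα : α * star α = 2) (hβ : β * star β = -1) (hδ : 2 * (δ * star δ) = 1) (h3 : (3 : C) ≠ 0) :
    False := by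
  have h2 : (2 : C) ≠ 0 := fun h => by rw [h, zero_mul] at hδ; exact zero_ne_one hδ
  have e1 : α * star α + β * star β = 1 := by rw [hα, hβ]; norm_num
  have e2 : δ * star δ + δ * star δ = 1 := by rw [← two_mul, hδ]
  have n1 : α * β ≠ 0 := fun h => h2 (by linear_combination 2 * hβ - (star α * star β) * h + β * star β * hα)
  have n2 : δ * δ ≠ 0 := fun h => one_ne_zero (α := C) (by
    linear_combination (-1 - 2 * (δ * star δ)) * hδ + 4 * (star δ * star δ) * h)
  obtain ⟨g, hg, hgE⟩ := c.exists_g (bk_uni (κ := κ) (mv2_uni e1))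
  obtain ⟨g', hg', hgE'⟩ := c.exists_g (bk_uni (κ := κ) (mv2_uni e2))
  have hn := not_SD (mv2_Mv n1 0) hgE
  have hn' := not_SD (mv2_Mv n2 0) hgE'
  have hH : ∀ a, tor z a ∈ H := fun a => c.mem_H hg hn (c.tor_mem z a) ⟨1, tor_E z a⟩
  have he : ∀ a, tor z a (eW (Fin 2) κ C) = eW (Fin 2) κ C := fun a => fix_eW fun x => ⟨x, tor_E z a _⟩
  have f0 := (hgE' _).trans (bk_mv2_zero δ δ)
  have f1 := (hgE' _).trans (bk_mv2_one e2)
  have hK : ∀ γ ∈ H, γ (eW (Fin 2) κ C) = eW (Fin 2) κ C → (∃ l, γ (g' (E C (inl 0))) = g' (E C (inl l))) →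
      γ ∈ TH.cj g' H := by
    rintro γ h1 h4 ⟨l, h5⟩
    refine c.mem_cj hg' hn' (c.in.le h1) ?_
    rintro (x | x)
    · fin_cases x
      · exact ⟨_, h5⟩
      · have h6 : γ (g' (E C (inl 1))) = eW (Fin 2) κ C - g' (E C (inl l)) := by rw [← h5, f1, map_sub, h4, f0]
        fin_cases l
        · exact ⟨inl 1, h6.trans (by rw [f1, ← f0]; rfl)⟩
        · exact ⟨inl 0, h6.trans (by rw [f0, ← sub_sub_cancel (eW (Fin 2) κ C) (sm2 _ _ _ _), ← f1]; rfl)⟩
    · obtain ⟨y, hy⟩ := inr_of_fix (c.le_SD h1) h4 x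
      exact ⟨inr y, by rw [hgE', hgE', bk_inr, bk_inr, hy]⟩
  refine cmp (tor z) (L := H ⊓ MulAction.stabilizer _ (eW (Fin 2) κ C)) (K := H ⊓ TH.cj g H) (K' := H ⊓ TH.cj g' H)
    (fun γ hγ => ⟨hγ.1, c.fix_of_cj (Or.inr (mv2_Mv n1)) hgE hγ.1 hγ.2⟩)
    (fun γ hγ => ⟨hγ.1, c.fix_of_cj (Or.inr (mv2_Mv n2)) hgE' hγ.1 hγ.2⟩)
    (by rw [c.in.card_inf hg fun h => hn (c.le_SD h), c.in.card_inf hg' fun h => hn' (c.le_SD h)])
    (fun a => ⟨hH a, he a⟩) (fun a ha => ?_) (fun γ hγ => ?_) ⟨-1, fun h => h2 ?_, hH _, hK _ (hH _) (he _) ⟨1, ?_⟩⟩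
  · obtain ⟨π, hπ⟩ := c.perm_cj ha.2
    have h4 := hπ (inl 0)
    rw [hgE, bk_mv2_zero, tor_sm2, hα, hβ] at h4
    have h5 := congrFun (congrFun h4 (inl 0)) (inl 0)
    rcases e : π (inl 0) with l | l
    · fin_cases l
      · have h6 := congrFun (congrFun h4 (inl 0)) (inl 1)
        rw [e, hgE] at h6
        erw [bk_mv2_zero] at h6
        simp only [sm2, fromBlocks_apply₁₁, of_apply, cons_val', cons_val_one, cons_val_fin_one, cons_val_zero] at h6
        refine Subtype.ext ?_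
        show (a : C) = 1
        linear_combination (δ * star δ * star α * star β) * h6 - ((a : C) - 1) * hδ
          + ((a : C) - 1) * (δ * star δ) * (β * star β * hα + 2 * hβ)
      · rw [e, hgE] at h5
        erw [bk_mv2_one e1] at h5
        simp [sm2, eW, hα] at h5
        exact (h3 (by linear_combination h5)).elim
    · rw [e, hgE, bk_inr] at h5
      simp [sm2, E] at h5
      exact (h2 h5).elim
  · obtain ⟨π, hπ⟩ := exists_perm (inl_of_fix (c.le_SD hγ.1) hγ.2)
    have h4 : γ (eW (Fin 2) κ C) = eW (Fin 2) κ C := hγ.2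
    have h5 : ∀ x, 2 * γ (g' (E C (inl 0))) (inl x) (inl x) = 1 := fun x => by
      obtain ⟨x, rfl⟩ := π.surjective x
      have h6 : E C (inl x) * g' (E C (inl 0)) * E C (inl x) + E C (inl x) * g' (E C (inl 0)) * E C (inl x) =
          E C (inl x) := by
        rw [E_mul_mul, ← single_add, f0, E]
        congr 1
        fin_cases x <;> simpa [sm2] using e2
      have h7 := congrArg γ h6
      rw [map_add, map_mul, map_mul, hπ, E_mul_mul, ← single_add] at h7
      simpa [E, two_mul] using congrFun (congrFun h7 (inl (π x))) (inl (π x))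
    have h6 := eq_sm2 (f := γ (g' (E C (inl 0)))) (by
        rw [← h4, ← map_mul, f0]
        congr 1
        rw [eW, sm2, fromBlocks_multiply]
        simp) (by rw [← c.saut (c.in.le hγ.1), ← c.saut hg', star_E])
    have h7 : γ (g' (E C (inl 0))) * γ (g' (E C (inl 0))) = γ (g' (E C (inl 0))) := by
      rw [← map_mul, ← map_mul, E_mul_self]
    have h8 : ∀ x, γ (g' (E C (inl 0))) (inl x) (inl x) = δ * star δ := fun x => by
      linear_combination (δ * star δ) * h5 x - γ (g' (E C (inl 0))) (inl x) (inl x) * hδ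
    rw [h8, h8] at h6
    generalize γ (g' (E C (inl 0))) (inl 0) (inl 1) = w at h6
    have h9 := congrFun (congrFun h7 (inl 0)) (inl 0)
    rw [h6] at h9
    simp [sm2, mul_apply] at h9
    have h10 : -4 * w * star (δ * δ) * star (-4 * w * star (δ * δ)) = 1 := by
      simp only [star_mul', star_neg, star_star, star_ofNat]
      linear_combination 16 * (δ * star δ) ^ 2 * h9 + (-8 * (δ * star δ) ^ 3 + 4 * (δ * star δ) ^ 2
        + 2 * (δ * star δ) + 1) * hδ
    let a : unitary C := ⟨-4 * w * star (δ * δ), by rw [mul_comm]; exact h10, h10⟩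
    refine ⟨a, H.mul_mem (H.inv_mem (hH a)) hγ.1, hK _ (H.mul_mem (H.inv_mem (hH a)) hγ.1)
      (by rw [ra_mul, h4, ← he a, ra_inv_apply, he]) ⟨0, ?_⟩⟩
    rw [ra_mul, h6, f0]
    refine (tor z a).injective ?_
    rw [ra_apply_inv, tor_sm2]
    congr 1
    simp only [a, star_mul']
    linear_combination -w * (2 * (δ * star δ) + 1) * hδ
  · have h4 : ((-1 : unitary C) : C) = 1 := congrArg Subtype.val h
    have h5 : (-1 : C) = 1 := h4
    linear_combination -h5
  · rw [f0, f1, tor_sm2, show ((-1 : unitary C) : C) = -1 from rfl]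
    ext x y
    rcases x with x | x <;> rcases y with y | y
    · fin_cases x <;> fin_cases y <;> simp [sm2, eW] <;> linear_combination e2
    all_goals simp [sm2, eW]

end Mx

/-- a product of two moves -/
def ch3 (α β : C) : Matrix (Fin 3) (Fin 3) C :=
  !![α, β * α, β * β; -star β, star α * α, star α * β; 0, -star β, star α]

theorem ch3_uni {α β : C} (h : α * star α + β * star β = 1) : ch3 α β * star (ch3 α β) = 1 := by
  ext a b
  fin_cases a <;> fin_cases b <;> simp [ch3, mul_apply, Fin.sum_univ_three, star_apply]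
  · linear_combination (1 + β * star β) * h
  · linear_combination (α * β) * h
  · ring
  · linear_combination (star α * star β) * h
  · linear_combination (1 + α * star α) * h
  · ring
  · ring
  · ring
  · linear_combination h

section ch

variable {α β : C} (hα : IsUnit α) (hβ : IsUnit β)
include hα hβ

theorem ch3_unit (a l : Fin 3) (h : ¬ (a = 2 ∧ l = 0)) : IsUnit (ch3 α β a l) := by
  have h1 := hα.star
  have h2 := hβ.star
  fin_cases a <;> fin_cases l <;> simp_all [ch3]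

theorem ch3_Mv (a : Fin 3) : Mv (ch3 α β) a := by
  obtain ⟨b, hb⟩ := exists_ne a
  exact ⟨b, 1, hb, ((ch3_unit hα hβ a 1 (by simp)).mul (ch3_unit hα hβ b 1 (by simp)).star).ne_zero⟩

theorem ch3_pat {π : Equiv.Perm (Fin 3)} (h : Pat (ch3 α β) π) :
    π 2 = 2 ∧ (π 0 = 1 → β * star β = α * star α) := by
  obtain ⟨π', x, hx, h⟩ := h
  have h1 : π 2 = 2 ∧ π' 0 = 0 := by
    by_contra h1
    have h2 := h 2 2 0
    rw [show ch3 α β 2 0 = 0 from rfl, zero_mul, mul_zero] at h2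
    exact ((ch3_unit hα hβ _ _ h1).mul (ch3_unit hα hβ _ _ h1).star).ne_zero h2
  refine ⟨h1.1, fun h2 => ?_⟩
  have h3 := h 0 0 0
  rw [h2, h1.2, hx] at h3
  simpa [ch3, mul_comm] using h3

end ch

namespace Mx

variable [Finite C] {m : ℕ}

/-- `p = 3` -/
theorem three {G H : Subgroup (RingAut (Matrix (Fin 3 ⊕ κ) (Fin 3 ⊕ κ) C))} (c : Mx (Fin 3 ⊕ κ) C G H m 3)
    {α : C} (hα : α * star α = -1) : False := by
  have h3 : (3 : C) = 0 := by exact_mod_cast c.char
  have h1 : IsUnit α := IsUnit.of_mul_eq_one (-star α) (by linear_combination -hα)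
  refine c.par (u := ch3 α α) (ch3_uni (by linear_combination 2 * hα - h3)) (ch3_Mv h1 h1 0) (Or.inr (ch3_Mv h1 h1))
    (y := finRotate 3) (j := 1) (by decide) (by simp) fun z h => ?_
  have h2 := (ch3_pat h1 h1 h).1
  rw [Equiv.Perm.mul_apply, Equiv.Perm.mul_apply, ← Equiv.Perm.eq_inv_iff_eq] at h2
  revert h2
  generalize z⁻¹ 2 = x
  revert x
  decide

theorem sign_two {W : Type} [Fintype W] [DecidableEq W] (h : (2 : C) = 0) (y : Equiv.Perm W) :
    (((Equiv.Perm.sign y : ℤˣ) : ℤ) : C) = 1 := by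
  rcases Int.units_eq_one_or (Equiv.Perm.sign y) with e | e <;> rw [e] <;> simp
  linear_combination -h

/-- `p = 2`, `q ≥ 4` -/
theorem two {G H : Subgroup (RingAut (Matrix (Fin 3 ⊕ κ) (Fin 3 ⊕ κ) C))} (c : Mx (Fin 3 ⊕ κ) C G H m 2)
    {α β : C} (h : α * star α + β * star β = 1) (hα : IsUnit α) (hβ : IsUnit β) : False := by
  have h2 : (2 : C) = 0 := by exact_mod_cast c.char
  refine c.par (u := ch3 α β) (ch3_uni h) (ch3_Mv hα hβ 0) (Or.inr (ch3_Mv hα hβ))
    (y := Equiv.swap 0 1) (j := 1) (by decide) (sign_two h2 _) fun z hz => ?_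
  obtain ⟨h3, h4⟩ := ch3_pat hα hβ hz
  have h5 : ∀ z : Equiv.Perm (Fin 3), (z * Equiv.swap 0 1 * z⁻¹ : Equiv.Perm (Fin 3)) 2 = 2 →
      (z * Equiv.swap 0 1 * z⁻¹ : Equiv.Perm (Fin 3)) 0 = 1 := by decide
  have h6 := h4 (h5 z h3)
  exact one_ne_zero (α := C) (by linear_combination -h + h6 + (α * star α) * h2)

/-- `p = 2`, a transvection -/
theorem lin {G H : Subgroup (RingAut (Matrix (Fin 2 ⊕ κ) (Fin 2 ⊕ κ) C))} (c : Mx (Fin 2 ⊕ κ) C G H m 2)
    {β : C} (h : β * star β = 0) (hβ : β * β ≠ 0) : False := by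
  have h2 : (2 : C) = 0 := by exact_mod_cast c.char
  have h1 : (1 : C) * β ≠ 0 := fun e => hβ (by rw [one_mul] at e; rw [e, zero_mul])
  refine c.par (u := mv2 1 β) (mv2_uni (by rw [h]; simp)) (mv2_Mv h1 0) (Or.inr (mv2_Mv h1))
    (y := Equiv.swap 0 1) (j := 1) (by decide) (sign_two h2 _) fun z hz => ?_
  have h5 : ∀ z : Equiv.Perm (Fin 2), z * Equiv.swap 0 1 * z⁻¹ = Equiv.swap 0 1 := by decide
  rw [h5] at hz
  obtain ⟨π', x, -, hx⟩ := hz
  have h3 := hx 1 0 0
  rw [Equiv.swap_apply_left, Equiv.swap_apply_right] at h3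
  refine hβ ?_
  generalize π' 0 = l at h3
  fin_cases l <;> simp [mv2] at h3
  · linear_combination β * h3 + x 1 0 * h
  · linear_combination β * h3 - x 1 0 * h

end Mx

section four

variable {ω : C} (h2 : (2 : C) = 0) (hω : ω * ω = ω + 1) (hs : star ω = ω + 1)

/-- a move on three points, `C = 𝔽₄` -/
def m4 (ω : C) : Matrix (Fin 4) (Fin 4) C := !![ω + 1, ω, ω, 0; ω, ω + 1, ω, 0; ω, ω, ω + 1, 0; 0, 0, 0, 1]

/-- a product of two moves on three points, `C = 𝔽₄` -/
def m5 (ω : C) : Matrix (Fin 5) (Fin 5) C :=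
  !![ω + 1, ω, 1, ω + 1, ω + 1; ω, ω + 1, 1, ω + 1, ω + 1; ω, ω, ω, 1, 1; 0, 0, ω, ω + 1, ω; 0, 0, ω, ω, ω + 1]

include h2 hω hs

theorem m4_uni : m4 ω * star (m4 ω) = 1 := by
  ext a b
  fin_cases a <;> fin_cases b <;> simp [m4, mul_apply, Fin.sum_univ_four, star_apply, hs] <;> grind

theorem m5_uni : m5 ω * star (m5 ω) = 1 := by
  ext a b
  fin_cases a <;> fin_cases b <;> simp [m5, mul_apply, Fin.sum_univ_five, star_apply, hs] <;> grind

omit hs in
theorem om_unit : IsUnit ω ∧ IsUnit (ω + 1) :=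
  have h : ω * (ω + 1) = 1 := by linear_combination hω + ω * h2
  ⟨IsUnit.of_mul_eq_one _ h, IsUnit.of_mul_eq_one_right _ h⟩

omit hs in
theorem m4_unit (a l : Fin 4) (ha : a ≠ 3) (hl : l ≠ 3) : IsUnit (m4 ω a l) := by
  obtain ⟨h3, h4⟩ := om_unit h2 hω
  fin_cases a <;> fin_cases l <;> simp_all [m4]

omit hs in
theorem m5_unit (a l : Fin 5) (h : a < 3 ∨ 2 ≤ l) : IsUnit (m5 ω a l) := by
  obtain ⟨h3, h4⟩ := om_unit h2 hω
  fin_cases a <;> fin_cases l <;> simp_all [m5]

end four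

namespace Mx

variable [Finite C] {m : ℕ} {ω : C}

/-- `U₄(2)` -/
theorem four [IsEmpty κ] {G H : Subgroup (RingAut (Matrix (Fin 4 ⊕ κ) (Fin 4 ⊕ κ) C))} (c : Mx (Fin 4 ⊕ κ) C G H m 2)
    (hω : ω * ω = ω + 1) (hs : star ω = ω + 1) : False := by
  have h2 : (2 : C) = 0 := by exact_mod_cast c.char
  have hu := m4_unit h2 hω
  refine c.par (u := m4 ω) (m4_uni h2 hω hs) (o := 0)
    ⟨1, 0, by decide, ((hu 0 0 (by decide) (by decide)).mul (hu 1 0 (by decide) (by decide)).star).ne_zero⟩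
    (Or.inl inferInstance) (y := finRotate 4) (j := 2) (by decide) (sign_two h2 _) fun z hz => ?_
  obtain ⟨π', x, -, hx⟩ := hz
  have h3 : ∀ z : Equiv.Perm (Fin 4), (z * finRotate 4 * z⁻¹) 3 ≠ 3 := by decide
  have h4 : ∀ l : Fin 4, l ≠ 3 → π' l = 3 := fun l hl => by
    by_contra h5
    have h6 := hx 3 3 l
    have h7 : m4 ω 3 l = 0 := by fin_cases l <;> simp_all [m4]
    rw [h7, zero_mul, mul_zero] at h6
    exact ((hu _ _ (h3 z) h5).mul (hu _ _ (h3 z) h5).star).ne_zero h6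
  exact absurd (π'.injective ((h4 0 (by decide)).trans (h4 1 (by decide)).symm)) (by decide)

/-- `U_n(2)`, `n ≥ 5` -/
theorem five {G H : Subgroup (RingAut (Matrix (Fin 5 ⊕ κ) (Fin 5 ⊕ κ) C))} (c : Mx (Fin 5 ⊕ κ) C G H m 2)
    (hω : ω * ω = ω + 1) (hs : star ω = ω + 1) : False := by
  have h2 : (2 : C) = 0 := by exact_mod_cast c.char
  have hu := m5_unit h2 hω
  have hm : ∀ a, Mv (m5 ω) a := fun a => by
    obtain ⟨b, hb⟩ := exists_ne a
    exact ⟨b, 2, hb, ((hu a 2 (Or.inr le_rfl)).mul (hu b 2 (Or.inr le_rfl)).star).ne_zero⟩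
  refine c.par (u := m5 ω) (m5_uni h2 hω hs) (hm 0) (Or.inr hm)
    (y := Equiv.swap 0 1 * Equiv.swap 1 2 * Equiv.swap 2 3) (j := 2) (by decide) (sign_two h2 _) fun z hz => ?_
  obtain ⟨π', x, -, hx⟩ := hz
  have h3 : ∀ z : Equiv.Perm (Fin 5), ∃ a : Fin 5, 3 ≤ a ∧
      (z * (Equiv.swap 0 1 * Equiv.swap 1 2 * Equiv.swap 2 3) * z⁻¹ : Equiv.Perm (Fin 5)) a < 3 := by
    decide +kernel
  obtain ⟨a, h4, h5⟩ := h3 z
  have h6 := hx a a 0
  have h7 : m5 ω a 0 = 0 := by fin_cases a <;> simp_all [m5]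
  rw [h7, zero_mul, mul_zero] at h6
  exact ((hu _ _ (Or.inl h5)).mul (hu _ _ (Or.inl h5)).star).ne_zero h6

end Mx

end Cfsg.Agent.TH.Cl.TorLU
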