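import Cfsg.Agent.TH.Cl.TorLU.Cases
import Cfsg.Agent.SB.Tor.U3d
import Cfsg.Agent.SB.Tor.LExt

/-!
# S3541, frames of 1-spaces: `boxTorL`, `boxTorU` (helper42)
-/

set_option autoImplicit false
set_option linter.unusedSectionVars false

namespace Cfsg.Agent.TH.Cl.TorLU

open Cfsg.Agent.DS.Cl Cfsg.Agent.DS.Cl.Fwd Cfsg.Agent.SB.Cl Matrix Sum Module

/-- transport of `In` along an isomorphism of the ambient groups -/
theorem in_map {Γ Γ' : Type*} [Group Γ] [Group Γ'] (ψ : Γ ≃* Γ') {G H : Subgroup Γ} {m : ℕ} (c : In G H m) :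
    In (G.map ψ.toMonoidHom) (H.map ψ.toMonoidHom) m := by
  refine ⟨Subgroup.map_mono c.le, ?_⟩
  have h1 : (H.subgroupOf G).map (ψ.subgroupMap G).toMonoidHom =
      (H.map ψ.toMonoidHom).subgroupOf (G.map ψ.toMonoidHom) := by
    ext x
    constructor
    · rintro ⟨y, hy, rfl⟩
      exact ⟨y, hy, rfl⟩
    · rintro ⟨y, hy, e⟩
      exact ⟨⟨y, c.le hy⟩, hy, Subtype.ext e⟩
  exact h1 ▸ c.half.map (ψ.subgroupMap G)

/-- transport of automorphisms along a ring isomorphism -/
def autC {A B : Type} [Ring A] [Ring B] (φ : A ≃+* B) : RingAut A ≃* RingAut B where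
  toFun γ := φ.symm.trans (RingEquiv.trans γ φ)
  invFun γ := φ.trans (RingEquiv.trans γ φ.symm)
  left_inv γ := by ext; simp
  right_inv γ := by ext; simp
  map_mul' γ δ := by
    ext x
    change φ (γ (δ (φ.symm x))) = φ (γ (φ.symm (φ (δ (φ.symm x)))))
    rw [φ.symm_apply_apply]

theorem autC_apply {A B : Type} [Ring A] [Ring B] (φ : A ≃+* B) (γ : RingAut A) (a : A) :
    autC φ γ (φ a) = φ (γ a) := by
  change φ (γ (φ.symm (φ a))) = _
  rw [φ.symm_apply_apply]

/-- from `Ctx` to the matrix model -/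
theorem mx_of {A : Type} [Ring A] [StarRing A] [Finite A] {F : FR A} {G H : Subgroup (RingAut A)} {m p : ℕ}
    (c : Ctx F G H m p) {D : Finset A} (hD : Inv H D) {ι C : Type} [Fintype ι] [DecidableEq ι] [Nonempty ι] [CommRing C]
    [StarRing C] (φ : A ≃+* Matrix ι ι C) (hs : ∀ a, φ (star a) = star (φ a)) (hE : ∀ a, a ∈ D ↔ ∃ i, φ a = E C i)
    (hS : ∀ u : Aˣ, (u : A) * star (u : A) = 1 → det (φ u) = 1 → u ∈ (⁅F.Iso, F.Iso⁆ : Subgroup Aˣ)) :
    Mx ι C (G.map (autC φ).toMonoidHom) (H.map (autC φ).toMonoidHom) m p where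
  «in» := in_map _ c.in
  prime := c.prime
  nd := by
    rw [Subgroup.card_map_of_injective (autC φ).injective]
    exact c.not_dvd_d
  char := by
    obtain ⟨i⟩ := ‹Nonempty ι›
    have h1 := congrFun (congrFun (congrArg φ c.char) i) i
    rwa [map_natCast, map_zero, ← diagonal_natCast, diagonal_apply_eq] at h1
  saut := by
    rintro _ ⟨γ, hγ, rfl⟩ a
    obtain ⟨a, rfl⟩ := φ.surjective a
    change autC φ γ _ = star (autC φ γ _)
    rw [← hs, autC_apply, autC_apply, (c.le hγ).1, hs]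
  su u h hd := by
    obtain ⟨u, rfl⟩ := φ.surjective u
    have h1 : u * star u = 1 := φ.injective (by rw [map_mul, hs, h, map_one])
    refine ⟨DS.Cl.cj A (mkU u h1), c.S_le ⟨_, hS _ h1 hd, rfl⟩, RingEquiv.ext fun a => ?_⟩
    obtain ⟨a, rfl⟩ := φ.surjective a
    change autC φ _ _ = _
    rw [autC_apply, cj_un, ← hs, ← map_mul, ← map_mul]
    rfl
  inv := by
    rintro _ ⟨γ, hγ, rfl⟩ i
    obtain ⟨a, ha⟩ := φ.surjective (E C i)
    obtain ⟨j, hj⟩ := (hE _).1 (hD γ hγ a ((hE a).2 ⟨i, ha⟩))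
    refine ⟨j, ?_⟩
    change autC φ _ _ = _
    rw [← ha, autC_apply, hj]

/-- there is an example in every system of coordinates -/
def Ex (C : Type) [CommRing C] [StarRing C] (n m p : ℕ) : Prop :=
  ∀ (ι : Type) [Fintype ι] [DecidableEq ι], Fintype.card ι = n → ∃ G H, Mx ι C G H m p

section abstract

variable {C : Type} [CommRing C] [StarRing C] [Nontrivial C] [Finite C] {n m p : ℕ}

theorem Ex.sum (h : Ex C n m p) {k : ℕ} (hk : k ≤ n) : ∃ G H, Mx (Fin k ⊕ Fin (n - k)) C G H m p :=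
  h _ (by simp [hk])

/-- odd characteristic -/
theorem Ex.odd (h : Ex C n m p) (hn : 3 ≤ n) (hp : p ≠ 2) (hN : ∀ s : C, star s = s → ∃ α, α * star α = s) :
    False := by
  obtain ⟨β, hβ⟩ := hN (-1) (by simp)
  by_cases h3 : p = 3
  · obtain ⟨G, H, c⟩ := h.sum hn
    subst h3
    exact c.three hβ
  obtain ⟨G, H, c⟩ := h.sum (k := 2) (by omega)
  have : CharP C p := by
    have := Fact.mk c.prime
    exact (CharP.charP_iff_prime_eq_zero c.prime).2 c.char
  have h1 : ∀ r : ℕ, r.Prime → p ≠ r → (r : C) ≠ 0 := fun r hr hpr h0 =>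
    hpr ((Nat.prime_dvd_prime_iff_eq c.prime hr).1 ((CharP.cast_eq_zero_iff C p r).1 h0))
  obtain ⟨α, hα⟩ := hN 2 (by simp)
  obtain ⟨k, hk⟩ := c.prime.odd_of_ne_two hp
  obtain ⟨δ, hδ⟩ := hN ((k + 1 : ℕ) : C) (by simp)
  refine c.half ⟨0, by omega⟩ hα hβ (δ := δ) ?_ (by exact_mod_cast h1 3 Nat.prime_three h3)
  have h2 := c.char
  rw [hk] at h2
  push_cast at h2 hδ
  linear_combination 2 * hδ + h2

end abstract

/-- unitary groups in characteristic two -/
theorem Ex.even {C : Type} [Field C] [StarRing C] [Finite C] {n m : ℕ} (h : Ex C n m 2) (hn : 3 ≤ n)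
    (hN : ∀ s : C, star s = s → ∃ α, α * star α = s) (hω : ∃ ω : C, star ω ≠ ω) (h4 : n = 3 → Nat.card C ≠ 4) :
    False := by
  by_cases hs : ∃ s : C, star s = s ∧ s ≠ 0 ∧ s ≠ 1
  · obtain ⟨s, h1, h2, h3⟩ := hs
    obtain ⟨G, H, c⟩ := h.sum hn
    obtain ⟨α, hα⟩ := hN s h1
    obtain ⟨β, hβ⟩ := hN (1 - s) (by simp [h1])
    refine c.two (α := α) (β := β) (by rw [hα, hβ]; ring) (Ne.isUnit ?_) (Ne.isUnit ?_)
    · rintro rfl
      exact h2 (by rw [← hα, zero_mul])
    · rintro rfl
      exact h3 (by linear_combination hβ)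
  push Not at hs
  have h2 : (2 : C) = 0 := by
    obtain ⟨G, H, c⟩ := h.sum hn
    exact_mod_cast c.char
  have key : ∀ x : C, star x ≠ x → star x = x + 1 ∧ x * x = x + 1 := fun x hx => by
    have a1 := hs (x + star x) (by rw [star_add, star_star, add_comm]) fun e => hx (by linear_combination e - x * h2)
    have a2 := hs (x * star x) (by rw [star_mul', star_star, mul_comm]) fun e => hx (by
      rcases mul_eq_zero.1 e with e | e
      · rw [e, star_zero]
      · rw [e, star_eq_zero.1 e])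
    exact ⟨by linear_combination a1 - x * h2, by linear_combination x * a1 - a2 + (x * x - x - 1 + x * star x) * h2
      - 2 * x * a1⟩
  obtain ⟨ω, hω⟩ := hω
  obtain ⟨a1, a2⟩ := key ω hω
  rcases Nat.lt_or_ge n 5 with h5 | h5
  · rcases (show n = 3 ∨ n = 4 by omega) with e | e
    · classical
      refine h4 e ?_
      have := Fintype.ofFinite C
      have a3 : (Finset.univ : Finset C) = {0, 1, ω, ω + 1} := by
        ext x
        simp only [Finset.mem_univ, Finset.mem_insert, Finset.mem_singleton, true_iff]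
        by_cases hx : star x = x
        · by_cases h0 : x = 0
          · exact Or.inl h0
          · exact Or.inr (Or.inl (hs x hx h0))
        · have a4 : (x - ω) * (x - (ω + 1)) = 0 := by
            linear_combination (key x hx).2 + a2 + (1 + ω - x * ω) * h2
          exact Or.inr (Or.inr ((mul_eq_zero.1 a4).imp sub_eq_zero.1 sub_eq_zero.1))
      have b0 : ω ≠ 0 := by rintro rfl; simp at a2
      have b1 : ω ≠ 1 := by rintro rfl; simp at a2
      have b2 : ω + 1 ≠ 0 := fun e => b0 (mul_self_eq_zero.1 (a2.trans e))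
      rw [Nat.card_eq_fintype_card, ← Finset.card_univ, a3, Finset.card_insert_of_notMem (by simp [b0.symm, b2.symm]),
        Finset.card_insert_of_notMem (by simp [b0, b1.symm]), Finset.card_pair (by simp)]
    · obtain ⟨G, H, c⟩ := h (Fin 4 ⊕ Empty) (by simp [e])
      exact c.four a2 a1
  · obtain ⟨G, H, c⟩ := h.sum h5
    exact c.five a2 a1

section U

variable {K V : Type} [Field K] [Fintype K] [AddCommGroup V] [Module K V] [Finite V] (h : HF K V)

/-- the involution of the field -/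
@[reducible] def starU : StarRing K where
  star := h.τ
  star_involutive := h.τ_τ
  star_mul a b := by rw [map_mul, mul_comm]
  star_add := map_add h.τ

theorem rk_pos {e : h.EB} (he : e ≠ 0) : 0 < rk h e := by
  have : Module.Finite K V := Module.Finite.of_finite
  show 0 < finrank K (LinearMap.range (h.ap e))
  rw [finrank_pos_iff, Submodule.nontrivial_iff_ne_bot, Ne, LinearMap.range_eq_bot]
  exact he

theorem exU {F : FR h.EB} {q : ℕ} {G H : Subgroup (RingAut h.EB)} {m p : ℕ} (k : KU h F q) (c : Ctx F G H m p)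
    {D : Finset h.EB} (hD : Fr D) (hI : Inv H D) (h1 : ∀ e ∈ D, rk h e = 1) :
    letI := starU h
    Ex K (finrank K V) m p := by
  let _ := starU h
  classical
  intro ι _ _ hι
  choose v hv1 hv2 hv3 using fun e : D => SB.Tor.exists_vec k.u hD e.2 (h1 e e.2) (map_one h.τ) one_ne_zero
  have ho : ∀ e e', h.b (v e) (v e') = if e = e' then 1 else 0 := fun e e' => by
    split_ifs with hee
    · rw [hee, hv1]
    · exact SB.Tor.Fr.b_eq_zero h hD e.2 e'.2 (fun a => hee (Subtype.ext a)) (hv2 e) (hv2 e')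
  have hli : LinearIndependent K v := Fintype.linearIndependent_iff.2 fun g hg e => by
    have h2 := congrArg (h.lin (v e)) hg
    rw [map_sum, map_zero, Finset.sum_eq_single e (fun e' _ he => by
      rw [map_smul, show h.lin (v e) (v e') = h.b (v e') (v e) from rfl, ho, if_neg he, smul_zero])
      (fun a => (a (Finset.mem_univ _)).elim), map_smul, show h.lin (v e) (v e) = h.b (v e) (v e) from rfl, hv1] at h2
    simpa using h2
  have hsp : ⊤ ≤ Submodule.span K (Set.range v) := fun x _ => by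
    have h2 : h.ap (∑ a ∈ D, a) x = ∑ a ∈ D, h.ap a x := LinearMap.sum_apply D (fun a => h.ap a) x
    rw [hD.sum, h.ap_one] at h2
    rw [h2]
    refine Submodule.sum_mem _ fun a ha => ?_
    obtain ⟨t, ht⟩ := hv3 ⟨a, ha⟩ (h.ap a x) (by rw [← h.ap_mul, hD.idem _ ha])
    rw [ht]
    exact Submodule.smul_mem _ _ (Submodule.subset_span ⟨_, rfl⟩)
  let b₀ := Basis.mk hli hsp
  let ε : D ≃ ι := Fintype.equivOfCardEq (by rw [hι, finrank_eq_card_basis b₀])
  let b := b₀.reindex ε
  have hb : ∀ i, b i = v (ε.symm i) := fun i => by rw [Basis.reindex_apply, Basis.mk_apply]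
  have hbo : ∀ i j, h.b (b i) (b j) = if i = j then 1 else 0 := fun i j => by
    rw [hb, hb, ho]
    simp
  have hr : ∀ x i, b.repr x i = h.b x (b i) := fun x i => by
    have h2 : b.coord i = h.lin (b i) := b.ext fun j => by
      rw [show h.lin (b i) (b j) = h.b (b j) (b i) from rfl, hbo]
      simp [Finsupp.single_apply]
    exact LinearMap.congr_fun h2 x
  let φ : h.EB ≃+* Matrix ι ι K := (LinearMap.toMatrixAlgEquiv b).toRingEquiv
  have hφ : ∀ a i j, φ a i j = h.b (h.ap a (b j)) (b i) := fun a i j => by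
    rw [← hr]
    exact LinearMap.toMatrixAlgEquiv_apply b (h.ap a) i j
  have hE : ∀ e : D, φ e = E K (ε e) := fun e => by
    ext i j
    rw [hφ, E, single_apply]
    by_cases hj : ε e = j
    · rw [← hj, hb (ε e), ε.symm_apply_apply, hv2, hb, ho]
      simp [ε.eq_symm_apply]
    · rw [hb j, SB.Tor.Fr.ap_eq_zero h hD e.2 (ε.symm j).2 (fun a => hj (ε.eq_symm_apply.1 (Subtype.ext a))) (hv2 _),
        h.zero_left, if_neg fun a => hj a.2]
  have : Nonempty ι := Fintype.card_pos_iff.1 (by rw [hι]; have := k.dim; omega)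
  refine ⟨_, _, mx_of c hI φ (fun a => ?_) (fun a => ⟨fun ha => ⟨_, hE ⟨a, ha⟩⟩, ?_⟩) fun u hu hd => ?_⟩
  · ext i j
    rw [star_apply, hφ, hφ, h.star_b, h.swap (h.ap a (b i)), k.u.1, one_mul]
    rfl
  · rintro ⟨i, hi⟩
    obtain ⟨e, rfl⟩ := ε.surjective i
    rw [φ.injective (hi.trans (hE e).symm)]
    exact e.2
  · refine SB.Tor.su_le_comm k.u F k.dim (fun e e' => k.ne ⟨e, ?_⟩) (b.reindex (Fintype.equivFinOfCardEq hι))
      (fun i j => by rw [b.reindex_apply, b.reindex_apply, hbo]; simp) (mem_Iso_max k.L hu) ?_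
    · rw [Nat.card_eq_fintype_card, k.card] at e'
      nlinarith
    · rw [← LinearMap.det_toMatrix b]
      exact hd

end U

/-- **[C-Tor], unitary groups** -/
theorem _root_.Cfsg.Agent.TH.Cl.boxTorU : BoxTorU := by
  rintro K V _ _ _ _ _ h F q G H m p k c ⟨⟨D, hD, hI⟩, hB⟩
  have h1 : ∀ e ∈ D, rk h e = 1 := fun e he => by
    have h2 := rk_pos h (hD.ne e he)
    have h3 : ¬ 2 ≤ rk h e := fun h4 => hB ⟨D, hD, hI, e, he, h4⟩
    omega
  let _ := starU h
  have h2 := exU h k c hD hI h1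
  have hτ : h.τ ≠ RingHom.id K := fun e => by
    obtain ⟨x, hx⟩ := k.u.2
    exact hx (by rw [e]; rfl)
  have hN : ∀ s : K, star s = s → ∃ α, α * star α = s := fun s hs =>
    ClassicalGeometry.InvolutiveNorm.exists_mul_sigma_eq hτ h.τ_τ hs
  by_cases hp : p = 2
  · subst hp
    refine h2.even k.dim hN k.u.2 fun e e' => k.ne ⟨e, ?_⟩
    rw [Nat.card_eq_fintype_card, k.card] at e'
    nlinarith
  · exact h2.odd k.dim hp hN

section L

variable {K : Type} [Field K]

/-- the swap -/
@[reducible] def starL (K : Type) [Field K] : StarRing (K × K) where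
  star := Prod.swap
  star_involutive _ := rfl
  star_mul _ _ := Prod.ext (mul_comm _ _) (mul_comm _ _)
  star_add _ _ := rfl

theorem exists_vecMulVec {n : ℕ} {a : Matrix (Fin n) (Fin n) K} (h : a.rank < 2) : ∃ v w, a = vecMulVec v w := by
  obtain ⟨⟨v, hv⟩, h1⟩ := finrank_le_one_iff.1 (show finrank K (LinearMap.range a.mulVecLin) ≤ 1 from Nat.lt_succ_iff.1 h)
  choose w hw using fun j => h1 ⟨a.mulVecLin (Pi.single j 1), _, rfl⟩
  refine ⟨v, w, Matrix.ext fun i j => ?_⟩
  have h2 := congrFun (congrArg Subtype.val (hw j)) i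
  rw [vecMulVec_apply, mul_comm]
  simpa using h2.symm

/-- the coordinates of the ring of pairs -/
def phiL {n : ℕ} {ι : Type} [Fintype ι] [DecidableEq ι] (P : Matrix (Fin n) ι K) (P' : Matrix ι (Fin n) K)
    (h1 : P * P' = 1) (h2 : P' * P = 1) : LR (Fin n) K ≃+* Matrix ι ι (K × K) where
  toFun x := of fun i j => ((P' * x.1 * P) i j, (Pᵀ * x.2 * P'ᵀ) i j)
  invFun y := LR.mk (P * y.map Prod.fst * P') (P'ᵀ * y.map Prod.snd * Pᵀ)
  left_inv x := by
    refine Prod.ext ?_ ?_
    · change P * (P' * x.1 * P) * P' = x.1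
      simp only [← Matrix.mul_assoc, h1, Matrix.one_mul]
      rw [Matrix.mul_assoc, h1, Matrix.mul_one]
    · change P'ᵀ * (Pᵀ * x.2 * P'ᵀ) * Pᵀ = x.2
      simp only [← Matrix.mul_assoc, ← transpose_mul, h1, transpose_one, Matrix.one_mul]
      rw [Matrix.mul_assoc, ← transpose_mul, h1, transpose_one, Matrix.mul_one]
  right_inv y := by
    have a1 : P' * (P * y.map Prod.fst * P') * P = y.map Prod.fst := by
      simp only [← Matrix.mul_assoc, h2, Matrix.one_mul]
      rw [Matrix.mul_assoc, h2, Matrix.mul_one]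
    have a2 : Pᵀ * (P'ᵀ * y.map Prod.snd * Pᵀ) * P'ᵀ = y.map Prod.snd := by
      simp only [← Matrix.mul_assoc, ← transpose_mul, h2, transpose_one, Matrix.one_mul]
      rw [Matrix.mul_assoc, ← transpose_mul, h2, transpose_one, Matrix.mul_one]
    ext i j
    · exact congrFun (congrFun a1 i) j
    · exact congrFun (congrFun a2 i) j
  map_mul' x y := by
    have a1 : P' * (x.1 * y.1) * P = P' * x.1 * P * (P' * y.1 * P) := by
      simp only [Matrix.mul_assoc]
      rw [← Matrix.mul_assoc P, h1, Matrix.one_mul]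
    have a2 : Pᵀ * (x.2 * y.2) * P'ᵀ = Pᵀ * x.2 * P'ᵀ * (Pᵀ * y.2 * P'ᵀ) := by
      simp only [Matrix.mul_assoc]
      rw [← Matrix.mul_assoc P'ᵀ, ← transpose_mul, h1, transpose_one, Matrix.one_mul]
    ext i j
    · rw [mul_apply, Prod.fst_sum]
      exact (congrFun (congrFun a1 i) j).trans (mul_apply ..)
    · rw [mul_apply, Prod.snd_sum]
      exact (congrFun (congrFun a2 i) j).trans (mul_apply ..)
  map_add' x y := by
    ext i j
    · change (P' * (x.1 + y.1) * P) i j = _
      rw [Matrix.mul_add, Matrix.add_mul]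
      rfl
    · change (Pᵀ * (x.2 + y.2) * P'ᵀ) i j = _
      rw [Matrix.mul_add, Matrix.add_mul]
      rfl

theorem exL [Fintype K] {n : ℕ} {F : FR (LR (Fin n) K)} {G H : Subgroup (RingAut (LR (Fin n) K))} {m p : ℕ} (k : KL F)
    (c : Ctx F G H m p) {D : Finset (LR (Fin n) K)} (hD : Fr D) (hI : Inv H D) (h1 : ∀ e ∈ D, rkL e < 2) :
    letI := starL K
    Ex (K × K) n m p := by
  let _ := starL K
  classical
  intro ι _ _ hι
  choose v w hvw using fun e : D => exists_vecMulVec (h1 e e.2)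
  have hT : ∀ e : D, e.1.2 = e.1.1ᵀ := fun e => (congrArg Prod.snd (hD.symm e e.2)).symm
  have h0 : ∀ e : D, e.1.1 ≠ 0 := fun e he => hD.ne e e.2 (Prod.ext he (by rw [hT, he]; rfl))
  have ho : ∀ e e' : D, w e ⬝ᵥ v e' = if e = e' then 1 else 0 := fun e e' => by
    have a1 : e.1.1 * e'.1.1 = (w e ⬝ᵥ v e') • vecMulVec (v e) (w e') := by
      rw [hvw, hvw, vecMulVec_mul_vecMulVec, vecMulVec_smul]
    have a2 : vecMulVec (v e) (w e') ≠ 0 := fun a => by
      rcases vecMulVec_eq_zero.1 a with a | a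
      · exact h0 e (by rw [hvw, a, zero_vecMulVec])
      · exact h0 e' (by rw [hvw, a, vecMulVec_zero])
    split_ifs with hee
    · subst hee
      have a3 : e.1.1 * e.1.1 = e.1.1 := congrArg Prod.fst (hD.idem e e.2)
      exact smul_left_injective K a2 (a1.symm.trans (a3.trans ((hvw e).trans (one_smul _ _).symm)))
    · have a3 : e.1.1 * e'.1.1 = 0 := congrArg Prod.fst (hD.orth e e.2 e' e'.2 fun a => hee (Subtype.ext a))
      exact (smul_eq_zero.1 (a1.symm.trans a3)).resolve_right a2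
  have hsum : ∑ e : D, vecMulVec (v e) (w e) = 1 := by
    let π : LR (Fin n) K →+* Matrix (Fin n) (Fin n) K := RingHom.fst _ _
    have a1 := congrArg π hD.sum
    rw [map_sum, map_one] at a1
    rw [← a1, ← Finset.sum_coe_sort D]
    exact Finset.sum_congr rfl fun e _ => (hvw e).symm
  have hP : ∀ {ι : Type} [Fintype ι] [DecidableEq ι] (ε : ι ≃ D),
      (of fun r i => v (ε i) r) * (of fun i r => w (ε i) r) = (1 : Matrix (Fin n) (Fin n) K) ∧
      (of fun i r => w (ε i) r) * (of fun r i => v (ε i) r) = (1 : Matrix ι ι K) := fun ε => by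
    constructor
    · rw [← hsum, ← ε.sum_comp]
      ext r s
      rw [mul_apply, Matrix.sum_apply]
      rfl
    · ext i j
      rw [one_apply]
      exact (ho (ε i) (ε j)).trans (by simp)
  have hc : Fintype.card D = n := by
    obtain ⟨a1, a2⟩ := hP (Equiv.refl D)
    apply le_antisymm
    · rw [← rank_one (R := K), ← a2]
      exact (rank_mul_le_left _ _).trans ((rank_le_card_width _).trans (Fintype.card_fin n).le)
    · conv_lhs => rw [← Fintype.card_fin n, ← rank_one (R := K), ← a1]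
      exact (rank_mul_le_left _ _).trans (rank_le_card_width _)
  let ε : ι ≃ D := Fintype.equivOfCardEq (by rw [hι, hc])
  obtain ⟨a1, a2⟩ := hP ε
  let φ := phiL _ _ a1 a2
  have hE : ∀ i, φ (ε i) = E (K × K) i := fun i => by
    have a3 : (of fun i r => w (ε i) r) * (ε i).1.1 * (of fun r i => v (ε i) r) = single i i 1 := by
      rw [hvw, mul_vecMulVec, vecMulVec_mul]
      ext a b
      have b1 : ((of fun i r => w (ε i) r) *ᵥ v (ε i)) a = w (ε a) ⬝ᵥ v (ε i) := rfl
      have b2 : (w (ε i) ᵥ* of fun r i => v (ε i) r) b = w (ε i) ⬝ᵥ v (ε b) := rfl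
      rw [vecMulVec_apply, b1, b2, ho, ho, single_apply]
      by_cases e1 : i = a <;> by_cases e2 : i = b <;> simp [e1, e2, eq_comm (a := a)]
    have a4 := congrArg transpose a3
    rw [transpose_mul, transpose_mul, ← Matrix.mul_assoc, ← hT, transpose_single] at a4
    ext a b
    · refine (congrFun (congrFun a3 a) b).trans ?_
      rw [E, single_apply, single_apply]
      split_ifs <;> rfl
    · refine (congrFun (congrFun a4 a) b).trans ?_
      rw [E, single_apply, single_apply]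
      split_ifs <;> rfl
  have : Nonempty ι := Fintype.card_pos_iff.1 (by rw [hι]; have := k.dim; omega)
  refine ⟨_, _, mx_of c hI φ (fun a => ?_) (fun a => ⟨fun ha => ⟨ε.symm ⟨a, ha⟩, ?_⟩, ?_⟩) fun u hu hd => ?_⟩
  · ext i j
    · change (_ * a.2ᵀ * _ : Matrix ι ι K) i j = (_ * a.2 * _ : Matrix ι ι K) j i
      rw [← transpose_apply (_ * a.2 * _ : Matrix ι ι K), transpose_mul, transpose_mul, ← Matrix.mul_assoc]
      rfl
    · change (_ * a.1ᵀ * _ : Matrix ι ι K) i j = (_ * a.1 * _ : Matrix ι ι K) j i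
      rw [← transpose_apply (_ * a.1 * _ : Matrix ι ι K), transpose_mul, transpose_mul, ← Matrix.mul_assoc]
  · rw [← hE, ε.apply_symm_apply]
  · rintro ⟨i, hi⟩
    rw [φ.injective (hi.trans (hE i).symm)]
    exact (ε i).2
  · refine (SB.Tor.mem_comm_iff k.dim F u).2 ⟨mem_Iso_max (F.L_eq SB.Tor.eps_LR.cen SB.Tor.eps_LR.add) hu, ?_⟩
    have a3 := congrArg (RingHom.fst K K) hd
    rw [RingHom.map_det, map_one] at a3
    have a4 : det ((of fun i r => w (ε i) r) * u.1.1 * (of fun r i => v (ε i) r) : Matrix ι ι K) = 1 := a3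
    rw [Matrix.mul_assoc, det_comm' a2 a1, Matrix.mul_assoc, a1, Matrix.mul_one] at a4
    rw [SB.Fld.prL_apply]
    exact (LinearMap.det_toLin' _).trans a4

end L

/-- **[C-Tor], linear groups** -/
theorem _root_.Cfsg.Agent.TH.Cl.boxTorL : BoxTorL := by
  rintro K _ _ n F G H m p k c ⟨⟨D, hD, hI⟩, hB⟩
  let _ := starL K
  have h2 := exL k c hD hI fun e he => not_le.1 fun h4 => hB ⟨D, hD, hI, e, he, h4⟩
  by_cases hp : p = 2
  · subst hp
    obtain ⟨G', H', c'⟩ := h2.sum (k := 2) (by have := k.dim; omega)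
    exact c'.lin (β := (1, 0)) (Prod.ext (mul_zero _) (zero_mul _)) fun e => by simpa using congrArg Prod.fst e
  · exact h2.odd k.dim hp fun s hs => ⟨(s.1, 1), Prod.ext (mul_one _) ((one_mul _).trans (congrArg Prod.snd hs : s.1 = s.2))⟩

end Cfsg.Agent.TH.Cl.TorLU
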