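import Cfsg.Agent.TH.Cl.Basic

/-!
# S3541, frames of 1-spaces: the matrix model (helper42)

`C` is a commutative ring with involution (`K × K` with the swap, or a field), `A = Matrix ι ι C`, the frame is
`E a = single a a 1`.  `Mx.par` : a unitary matrix whose pattern is preserved by no conjugate of a `p`-element of the
symmetric group gives `p ∣ d`.
-/

set_option autoImplicit false
set_option linter.unusedSectionVars false

namespace Cfsg.Agent.TH.Cl.TorLU

open Cfsg.Agent.DS.Cl Matrix Sum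

/-- comparison of two orbits of `L` by means of a subgroup which is regular on (a part of) the first and transitive,
not regular, on the second -/
theorem cmp {Γ X : Type*} [Group Γ] [Group X] [Finite Γ] [Finite X] (t : X →* Γ) {L K K' : Subgroup Γ} (hK : K ≤ L)
    (hK' : K' ≤ L) (hc : Nat.card K = Nat.card K') (ht : ∀ a, t a ∈ L) (h1 : ∀ a, t a ∈ K → a = 1)
    (h2 : ∀ γ ∈ L, ∃ a, (t a)⁻¹ * γ ∈ K') (h3 : ∃ a, a ≠ 1 ∧ t a ∈ K') : False := by
  let f : X × K → L := fun x => ⟨t x.1 * x.2, mul_mem (ht _) (hK x.2.2)⟩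
  let f' : X × K' → L := fun x => ⟨t x.1 * x.2, mul_mem (ht _) (hK' x.2.2)⟩
  have hf : Function.Injective f := by
    rintro ⟨a, k⟩ ⟨b, l⟩ e
    have e1 : t a * k = t b * l := congrArg Subtype.val e
    have e2 : t (b⁻¹ * a) = l * (k : Γ)⁻¹ := by
      rw [map_mul, map_inv, inv_mul_eq_iff_eq_mul, ← mul_assoc, ← e1, mul_inv_cancel_right]
    have e3 : a = b := (inv_mul_eq_one.1 (h1 _ (e2 ▸ mul_mem l.2 (inv_mem k.2)))).symm
    subst e3
    exact Prod.ext rfl (Subtype.ext (mul_left_cancel e1))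
  have hf' : Function.Surjective f' := fun γ => by
    obtain ⟨a, ha⟩ := h2 γ γ.2
    exact ⟨(a, ⟨_, ha⟩), Subtype.ext (mul_inv_cancel_left _ _)⟩
  have h4 := Nat.card_le_card_of_injective f hf
  rw [Nat.card_prod, hc, ← Nat.card_prod] at h4
  obtain ⟨a, ha, hk⟩ := h3
  exact ha (congrArg Prod.fst ((hf'.bijective_of_nat_card_le h4).1 (a₁ := (a, 1)) (a₂ := (1, ⟨t a, hk⟩))
    (Subtype.ext (by simp [f']))))

section mx

variable {ι C : Type} [Fintype ι] [DecidableEq ι] [CommRing C] [StarRing C]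

/-- the standard frame -/
def E (C : Type) [CommRing C] (a : ι) : Matrix ι ι C := single a a 1

theorem E_mul_mul (a b : ι) (f : Matrix ι ι C) : E C a * f * E C b = single a b (f a b) := by
  rw [E, E, single_mul_mul_single, one_mul, mul_one]

theorem single_eq_zero {a b : ι} {x : C} : single a b x = 0 ↔ x = 0 :=
  ⟨fun h => by simpa using congrFun (congrFun h a) b, fun h => by rw [h, single_zero]⟩

theorem E_inj [Nontrivial C] {a b : ι} (h : E C a = E C b) : a = b := by
  by_contra hab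
  have := congrFun (congrFun h a) a
  simp [E, Ne.symm hab] at this

theorem star_E (a : ι) : star (E C a) = E C a := by
  rw [E, star_eq_conjTranspose, conjTranspose_single, star_one]

theorem E_mul_self (a : ι) : E C a * E C a = E C a := by rw [E, single_mul_single_same, mul_one]

theorem mul_E_mul (u v : Matrix ι ι C) (l a b : ι) : (u * E C l * v) a b = u a l * v l b := by
  rw [mul_apply, Finset.sum_eq_single l (fun j _ hj => by rw [E, mul_single_apply_of_ne _ _ _ _ _ hj, zero_mul])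
    (fun h => (h (Finset.mem_univ _)).elim), E, mul_single_apply_same, mul_one]

/-- the zero pattern -/
theorem apply_eq_zero {γ : RingAut (Matrix ι ι C)} {a b a' b' : ι} (ha : γ (E C a) = E C a') (hb : γ (E C b) = E C b')
    (f : Matrix ι ι C) : γ f a' b' = 0 ↔ f a b = 0 := by
  rw [← single_eq_zero (a := a') (b := b'), ← E_mul_mul, ← ha, ← hb, ← map_mul, ← map_mul, E_mul_mul,
    map_eq_zero_iff _ γ.injective, single_eq_zero]

theorem lin_smul {γ : RingAut (Matrix ι ι C)} (hγ : γ ∈ Lin _) (x : C) (f : Matrix ι ι C) : γ (x • f) = x • γ f := by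
  have h1 : scalar ι x ∈ Subring.center (Matrix ι ι C) :=
    Subring.mem_center_iff.2 fun g => ((scalar_commute x (fun _ => mul_comm _ _) g).eq).symm
  rw [← one_mul f, ← smul_mul_assoc, smul_one_eq_diagonal, map_mul, show diagonal (fun _ => x) = scalar ι x from rfl,
    hγ _ h1, one_mul, scalar_apply, ← smul_one_eq_diagonal, smul_mul_assoc, one_mul]

/-- the entries under a linear automorphism -/
theorem lin_apply {γ : RingAut (Matrix ι ι C)} (hγ : γ ∈ Lin _) {a b a' b' : ι} (ha : γ (E C a) = E C a')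
    (hb : γ (E C b) = E C b') (f : Matrix ι ι C) : γ f a' b' = γ (single a b 1) a' b' * f a b := by
  have h1 : single a' b' (γ f a' b') = f a b • γ (single a b 1) := by
    rw [← E_mul_mul, ← ha, ← hb, ← map_mul, ← map_mul, E_mul_mul, ← lin_smul hγ, smul_single, smul_eq_mul, mul_one]
  have h2 := congrFun (congrFun h1 a') b'
  rwa [single_apply_same, Matrix.smul_apply, smul_eq_mul, mul_comm] at h2

variable (ι C) in
/-- the stabiliser of the standard frame -/
def SD : Subgroup (RingAut (Matrix ι ι C)) where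
  carrier := {γ | ∃ π : Equiv.Perm ι, ∀ a, γ (E C a) = E C (π a)}
  mul_mem' := by
    rintro γ δ ⟨π, h⟩ ⟨π', h'⟩
    exact ⟨π * π', fun a => by rw [ra_mul, h', h, Equiv.Perm.mul_apply]⟩
  one_mem' := ⟨1, fun _ => rfl⟩
  inv_mem' := by
    rintro γ ⟨π, h⟩
    refine ⟨π⁻¹, fun a => γ.injective ?_⟩
    rw [ra_apply_inv, h]
    simp

theorem mem_SD [Nontrivial C] {γ : RingAut (Matrix ι ι C)} (h : ∀ a, ∃ b, γ (E C a) = E C b) : γ ∈ SD ι C := by
  choose π hπ using h
  have h1 : Function.Injective π := fun a b e => E_inj (C := C) (γ.injective (by rw [hπ, hπ, e]))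
  exact ⟨Equiv.ofBijective π (Finite.injective_iff_bijective.1 h1), hπ⟩

/-- the unit of a unitary matrix -/
def un (u : Matrix ι ι C) (h : u * star u = 1) : (Matrix ι ι C)ˣ := ⟨u, star u, h, mul_eq_one_comm.1 h⟩

/-- conjugation by a unitary matrix -/
def cu (u : Matrix ι ι C) (h : u * star u = 1) : RingAut (Matrix ι ι C) := DS.Cl.cj _ (un u h)

theorem cj_un (u : Matrix ι ι C) (h : u * star u = 1) (f : Matrix ι ι C) : cu u h f = u * f * star u := rfl

theorem diag_uni {d : ι → C} (h : ∀ a, d a * star (d a) = 1) : diagonal d * star (diagonal d) = 1 := by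
  rw [star_eq_conjTranspose, diagonal_conjTranspose, diagonal_mul_diagonal, ← diagonal_one]
  exact congrArg diagonal (funext h)

theorem diag_apply (d : ι → C) (f : Matrix ι ι C) (a b : ι) :
    (diagonal d * f * star (diagonal d)) a b = d a * f a b * star (d b) := by
  rw [star_eq_conjTranspose, diagonal_conjTranspose, mul_diagonal, diagonal_mul]
  rfl

theorem diag_E {d : ι → C} (h : ∀ a, d a * star (d a) = 1) (l : ι) :
    diagonal d * E C l * star (diagonal d) = E C l := by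
  ext a b
  rw [diag_apply, E, single_apply]
  split_ifs with hab
  · rw [← hab.1, ← hab.2, mul_one, h]
  · rw [mul_zero, zero_mul]

variable (ι C) in
/-- the standing hypotheses -/
structure Mx (G H : Subgroup (RingAut (Matrix ι ι C))) (m p : ℕ) : Prop where
  «in» : In G H m
  prime : p.Prime
  nd : ¬ p ∣ Nat.card H / m
  char : (p : C) = 0
  saut : G ≤ SAut _
  su : ∀ (u : Matrix ι ι C) (h : u * star u = 1), det u = 1 → cu u h ∈ G
  inv : ∀ γ ∈ H, ∀ a, ∃ b, γ (E C a) = E C b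

namespace Mx

variable [Nontrivial C] [Finite C] {G H : Subgroup (RingAut (Matrix ι ι C))} {m p : ℕ} (c : Mx ι C G H m p)
include c

theorem le_SD : H ≤ SD ι C := fun γ hγ => mem_SD (c.inv γ hγ)

/-- every orthonormal frame is a point -/
theorem exists_g [Nonempty ι] {u : Matrix ι ι C} (h : u * star u = 1) :
    ∃ g ∈ G, ∀ l, g (E C l) = u * E C l * star u := by
  obtain ⟨o⟩ := ‹Nonempty ι›
  have h1 : det u * star (det u) = 1 := by rw [← det_conjTranspose, ← det_mul, ← star_eq_conjTranspose, h, det_one]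
  let d : ι → C := Pi.mulSingle o (star (det u))
  have h2 : ∀ a, d a * star (d a) = 1 := fun a => by
    by_cases ha : a = o
    · simp only [d, ha, Pi.mulSingle_eq_same, star_star]
      rw [mul_comm, h1]
    · simp only [d, Pi.mulSingle_eq_of_ne ha, star_one, mul_one]
  have h3 : u * diagonal d * star (u * diagonal d) = 1 := by
    rw [star_mul, mul_assoc, ← mul_assoc (diagonal d), diag_uni h2, one_mul, h]
  refine ⟨_, c.su _ h3 (by rw [det_mul, det_diagonal, Fintype.prod_pi_mulSingle', h1]), fun l => ?_⟩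
  rw [cj_un, star_mul]
  conv_rhs => rw [← diag_E h2 l]
  simp only [mul_assoc]

theorem mem_H {g : RingAut (Matrix ι ι C)} (hg : g ∈ G) (hn : g ∉ SD ι C) {γ : RingAut (Matrix ι ι C)} (h1 : γ ∈ G)
    (h2 : γ ∈ SD ι C) : γ ∈ H := by
  rw [← c.in.max (M := G ⊓ SD ι C) (le_inf c.in.le c.le_SD) inf_le_left fun h => hn (h hg).2]
  exact ⟨h1, h2⟩

theorem perm_cj {g γ : RingAut (Matrix ι ι C)} (h : γ ∈ TH.cj g H) :
    ∃ π : Equiv.Perm ι, ∀ l, γ (g (E C l)) = g (E C (π l)) := by
  obtain ⟨π, hπ⟩ := c.le_SD (TH.mem_cj.1 h)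
  exact ⟨π, fun l => by rw [← hπ, ra_mul, ra_mul, ra_apply_inv]⟩

theorem mem_cj {g : RingAut (Matrix ι ι C)} (hg : g ∈ G) (hn : g ∉ SD ι C) {γ : RingAut (Matrix ι ι C)} (h1 : γ ∈ G)
    (h2 : ∀ l, ∃ l', γ (g (E C l)) = g (E C l')) : γ ∈ TH.cj g H :=
  TH.mem_cj.2 (c.mem_H hg hn (mul_mem (mul_mem (inv_mem hg) h1) hg) (mem_SD fun l => by
    obtain ⟨l', h⟩ := h2 l
    exact ⟨l', by rw [ra_mul, ra_mul, h, ra_inv_apply]⟩))

end Mx

end mx

section blk

variable {W κ C : Type} [Fintype W] [DecidableEq W] [Fintype κ] [DecidableEq κ] [CommRing C] [StarRing C]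

/-- a matrix acting on the first block -/
def bk (κ : Type) [DecidableEq κ] (u : Matrix W W C) : Matrix (W ⊕ κ) (W ⊕ κ) C := fromBlocks u 0 0 1

theorem bk_uni {u : Matrix W W C} (h : u * star u = 1) : bk κ u * star (bk κ u) = 1 := by
  rw [star_eq_conjTranspose] at h ⊢
  rw [bk, fromBlocks_conjTranspose, fromBlocks_multiply, h]
  simp

/-- the entries of the new frame -/
theorem bk_apply (u : Matrix W W C) (l a b : W ⊕ κ) :
    (bk κ u * E C l * star (bk κ u)) a b = bk κ u a l * star (bk κ u b l) := by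
  rw [mul_E_mul, star_apply]

theorem bk_inr (u : Matrix W W C) (l : κ) : bk κ u * E C (inr l) * star (bk κ u) = E C (inr l) := by
  ext a b
  rw [bk_apply]
  rcases a with a | a <;> rcases b with b | b <;> simp [bk, E, single_apply, one_apply]
  by_cases h1 : a = l <;> by_cases h2 : b = l <;> simp [h1, h2, eq_comm (a := l)]

/-- the idempotent of the first block -/
def eW (W κ C : Type) [DecidableEq W] [CommRing C] : Matrix (W ⊕ κ) (W ⊕ κ) C := fromBlocks 1 0 0 0

theorem eW_eq : eW W κ C = ∑ a : W, E C (inl a) := by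
  ext a b
  rw [Matrix.sum_apply]
  rcases a with a | a <;> rcases b with b | b <;> simp [eW, E, single_apply, one_apply]
  split_ifs with h
  · subst h
    simp [Finset.filter_eq']
  · rw [Finset.filter_eq_empty_iff.2 fun x _ e => h (e.1.symm.trans e.2)]
    simp

theorem E_inl_mul (a : W) : E C (inl a) * eW W κ C = E C (inl a) := by
  ext x y
  by_cases h : x = inl a
  · rw [h, E, single_mul_apply_same, one_mul]
    rcases y with y | y <;> simp [eW, single_apply, one_apply]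
  · rw [E, single_mul_apply_of_ne _ _ _ _ _ h, single_apply_of_row_ne (Ne.symm h)]

theorem E_inr_mul (a : κ) : E C (inr a) * eW W κ C = 0 := by
  ext x y
  rcases y with y | y <;> simp [E, eW, single_apply, mul_apply]

variable [Nontrivial C]

theorem E_ne_zero {ι : Type} [DecidableEq ι] (a : ι) : E C a ≠ 0 := fun h => by
  simpa [E] using congrFun (congrFun h a) a

theorem exists_perm {γ : RingAut (Matrix (W ⊕ κ) (W ⊕ κ) C)} (h : ∀ a, ∃ b, γ (E C (inl a)) = E C (inl b)) :
    ∃ π : Equiv.Perm W, ∀ a, γ (E C (inl a)) = E C (inl (π a)) := by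
  choose π hπ using h
  have h1 : Function.Injective π := fun a b e =>
    inl_injective (E_inj (C := C) (γ.injective (by rw [hπ, hπ, e])))
  exact ⟨Equiv.ofBijective π (Finite.injective_iff_bijective.1 h1), hπ⟩

theorem fix_eW {γ : RingAut (Matrix (W ⊕ κ) (W ⊕ κ) C)} (h : ∀ a, ∃ b, γ (E C (inl a)) = E C (inl b)) :
    γ (eW W κ C) = eW W κ C := by
  obtain ⟨π, hπ⟩ := exists_perm h
  rw [eW_eq, map_sum, Finset.sum_congr rfl fun a _ => hπ a]
  exact Equiv.sum_comp π fun a => E C (inl a)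

theorem inl_of_fix {γ : RingAut (Matrix (W ⊕ κ) (W ⊕ κ) C)} (h1 : γ ∈ SD (W ⊕ κ) C) (h : γ (eW W κ C) = eW W κ C)
    (a : W) : ∃ b, γ (E C (inl a)) = E C (inl b) := by
  obtain ⟨π, hπ⟩ := h1
  have h2 := congrArg γ (E_inl_mul (κ := κ) (C := C) a)
  rw [map_mul, h, hπ] at h2
  rcases e : π (inl a) with b | b
  · exact ⟨b, by rw [hπ, e]⟩
  · rw [e, E_inr_mul] at h2
    exact (E_ne_zero _ h2.symm).elim

theorem inr_of_fix {γ : RingAut (Matrix (W ⊕ κ) (W ⊕ κ) C)} (h1 : γ ∈ SD (W ⊕ κ) C) (h : γ (eW W κ C) = eW W κ C)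
    (a : κ) : ∃ b, γ (E C (inr a)) = E C (inr b) := by
  obtain ⟨π, hπ⟩ := h1
  have h2 := congrArg γ (E_inr_mul (W := W) (C := C) a)
  rw [map_mul, h, hπ, map_zero] at h2
  rcases e : π (inr a) with b | b
  · rw [e, E_inl_mul] at h2
    exact (E_ne_zero _ h2).elim
  · exact ⟨b, by rw [hπ, e]⟩

/-- the row `a` is moved -/
def Mv (u : Matrix W W C) (a : W) : Prop := ∃ b l, b ≠ a ∧ u a l * star (u b l) ≠ 0

theorem not_SD {u : Matrix W W C} {a : W} (h : Mv u a) {g : RingAut (Matrix (W ⊕ κ) (W ⊕ κ) C)}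
    (hg : ∀ l, g (E C l) = bk κ u * E C l * star (bk κ u)) : g ∉ SD (W ⊕ κ) C := by
  rintro ⟨π, hπ⟩
  obtain ⟨b, l, h1, h2⟩ := h
  have h3 := congrFun (congrFun ((hg (inl l)).symm.trans (hπ _)) (inl a)) (inl b)
  rw [bk_apply, E, single_apply, if_neg fun e => h1 (inl_injective (e.2.symm.trans e.1))] at h3
  exact h2 h3

/-- the patterns of `u` -/
def Pat (u : Matrix W W C) (π : Equiv.Perm W) : Prop :=
  ∃ (π' : Equiv.Perm W) (x : W → W → C), (∀ a, x a a = 1) ∧
    ∀ a b l, u (π a) (π' l) * star (u (π b) (π' l)) = x a b * (u a l * star (u b l))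

namespace Mx

variable [Finite C] {G H : Subgroup (RingAut (Matrix (W ⊕ κ) (W ⊕ κ) C))} {m p : ℕ} (c : Mx (W ⊕ κ) C G H m p)
include c

/-- the stabiliser of the two frames preserves the first block -/
theorem fix_of_cj {u : Matrix W W C} (hm : IsEmpty κ ∨ ∀ a, Mv u a) {g : RingAut (Matrix (W ⊕ κ) (W ⊕ κ) C)}
    (hg : ∀ l, g (E C l) = bk κ u * E C l * star (bk κ u)) {γ : RingAut (Matrix (W ⊕ κ) (W ⊕ κ) C)} (h1 : γ ∈ H)
    (h2 : γ ∈ TH.cj g H) : γ (eW W κ C) = eW W κ C := by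
  refine fix_eW fun a => ?_
  obtain ⟨π, hπ⟩ := c.le_SD h1
  obtain ⟨π', hπ'⟩ := c.perm_cj h2
  rcases e : π (inl a) with z | z
  · exact ⟨z, by rw [hπ, e]⟩
  exfalso
  rcases hm with hm | hm
  · exact hm.false z
  obtain ⟨b, l, h3, h4⟩ := hm a
  have h5 := (apply_eq_zero (hπ (inl a)) (hπ (inl b)) (g (E C (inl l)))).not.2 (by rw [hg, bk_apply]; exact h4)
  rw [hπ', hg, bk_apply, e] at h5
  have h6 : π (inl b) ≠ inr z := fun e' => h3 (inl_injective (π.injective (e'.trans e.symm)))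
  refine h5 ?_
  rcases π' (inl l) with y | y
  · simp [bk]
  rcases e' : π (inl b) with w | w
  · simp [bk]
  · have h7 : w ≠ z := fun e'' => h6 (by rw [e', e''])
    by_cases h8 : z = y
    · simp [bk, one_apply, ← h8, h7]
    · simp [bk, one_apply, h8]

/-- **a pattern preserved by no conjugate of a `p`-element** -/
theorem par {u : Matrix W W C} (hu : u * star u = 1) {o : W} (ho : Mv u o) (hm : IsEmpty κ ∨ ∀ a, Mv u a)
    {y : Equiv.Perm W} {j : ℕ} (hy : y ^ p ^ j = 1) (hs : (((Equiv.Perm.sign y : ℤˣ) : ℤ) : C) = 1)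
    (hp : ∀ z : Equiv.Perm W, ¬ Pat u (z * y * z⁻¹)) : False := by
  have : Fact p.Prime := ⟨c.prime⟩
  have : Nonempty (W ⊕ κ) := ⟨inl o⟩
  obtain ⟨g, hg, hgE⟩ := c.exists_g (bk_uni (κ := κ) hu)
  have hn := not_SD ho hgE
  let M := H ⊓ Lin (Matrix (W ⊕ κ) (W ⊕ κ) C)
  let L := M ⊓ MulAction.stabilizer (RingAut (Matrix (W ⊕ κ) (W ⊕ κ) C)) (eW W κ C)
  have hM : ∀ a ∈ H, ∀ x ∈ M, a * x * a⁻¹ ∈ M := fun a ha x hx =>
    ⟨H.mul_mem (H.mul_mem ha hx.1) (H.inv_mem ha), Lin_conj hx.2 a⟩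
  have h1 := c.in.relIndex_dvd_d₂ (M := M) (B := M) inf_le_left hM le_rfl (fun a ha => hM a ha.1) hg
  have h2 : ¬ p ∣ (TH.cj g H).relIndex L := fun h => c.nd (h.trans (Dvd.dvd.trans ?_ h1))
  swap
  · have h3 : TH.cj g H ⊓ M ≤ L := fun γ hγ => ⟨hγ.2, c.fix_of_cj hm hgE hγ.2.1 hγ.1⟩
    have h4 : TH.cj g H ⊓ M = TH.cj g H ⊓ L := le_antisymm (le_inf inf_le_left h3) (inf_le_inf_left _ inf_le_left)
    rw [← Subgroup.inf_relIndex_right _ M, ← Subgroup.relIndex_mul_relIndex _ L M h3 inf_le_left, h4,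
      Subgroup.inf_relIndex_right]
    exact Dvd.intro _ rfl
  -- the permutation matrix
  let Y : Equiv.Perm (W ⊕ κ) := Equiv.sumCongr y 1
  let P : Matrix (W ⊕ κ) (W ⊕ κ) C := (Y⁻¹).permMatrix C
  have hP : P * star P = 1 := by
    rw [star_eq_conjTranspose, conjTranspose_permMatrix, ← permMatrix_mul, inv_mul_cancel, permMatrix_one]
  have hPa : ∀ f a b, cu P hP f (Y a) (Y b) = f a b := fun f a b => by
    rw [cj_un, star_eq_conjTranspose, conjTranspose_permMatrix, PEquiv.toMatrix_toPEquiv_mul,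
      PEquiv.mul_toMatrix_toPEquiv]
    simp
  have hPE : ∀ a, cu P hP (E C a) = E C (Y a) := fun a => by
    ext x z
    obtain ⟨x, rfl⟩ := Y.surjective x
    obtain ⟨z, rfl⟩ := Y.surjective z
    rw [hPa]
    simp [E, single_apply]
  have hPG : cu P hP ∈ G := c.su _ _ (by
    rw [det_permutation, Equiv.Perm.sign_inv, Equiv.Perm.sign_sumCongr, Equiv.Perm.sign_one, mul_one, hs])
  have hPL : cu P hP ∈ L :=
    ⟨⟨c.mem_H hg hn hPG ⟨Y, hPE⟩, cj_mem_Lin _⟩, fix_eW fun a => ⟨y a, hPE _⟩⟩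
  have hPp : cu P hP ^ p ^ j = 1 := by
    have h3 : ∀ k : ℕ, ∀ f a b, (cu P hP ^ k) f ((Y ^ k) a) ((Y ^ k) b) = f a b := fun k => by
      induction k with
      | zero => exact fun _ _ _ => rfl
      | succ k ih => exact fun f a b => by rw [pow_succ', pow_succ', ra_mul, Equiv.Perm.mul_apply,
          Equiv.Perm.mul_apply, hPa, ih]
    have h4 : Y ^ p ^ j = 1 := by
      have h5 : Y = Equiv.Perm.sumCongrHom W κ (y, 1) := rfl
      rw [h5, ← map_pow, Prod.pow_mk, hy, one_pow]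
      exact map_one _
    ext f a b
    have h5 := h3 (p ^ j) f a b
    rwa [h4] at h5
  have hY : IsPGroup p (Subgroup.zpowers (cu P hP)) := by
    rintro ⟨_, k, rfl⟩
    refine ⟨j, Subtype.ext ?_⟩
    show (cu P hP ^ k) ^ p ^ j = 1
    rw [← zpow_natCast, ← _root_.zpow_mul, mul_comm, _root_.zpow_mul, zpow_natCast, hPp, _root_.one_zpow]
  obtain ⟨b, hb, hbY⟩ := exists_cj_le_of_relIndex h2 hY (Subgroup.zpowers_le.2 hPL)
  have h3 := hbY (conj_mem_cj b (Subgroup.mem_zpowers _))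
  have h4 : b * cu P hP * b⁻¹ ∈ L := mul_mem (mul_mem hb hPL) (inv_mem hb)
  obtain ⟨z, hz⟩ := exists_perm (inl_of_fix (c.le_SD hb.1.1) hb.2)
  have h5 : ∀ a, (b * cu P hP * b⁻¹) (E C (inl a)) = E C (inl ((z * y * z⁻¹) a)) := fun a => by
    obtain ⟨a, rfl⟩ := z.surjective a
    rw [ra_mul, ra_mul, ← hz, ra_inv_apply, hPE]
    simpa [Y] using hz (y a)
  generalize b * cu P hP * b⁻¹ = γ at h3 h4 h5
  have h6 : g (eW W κ C) = eW W κ C := by
    have h7 := map_sum g (fun a => E C a) Finset.univ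
    rw [Fintype.sum_sum_type, Fintype.sum_sum_type, map_add, ← eW_eq, map_sum, ← map_sum g (fun a => E C (inl a)),
      ← eW_eq] at h7
    have h8 : ∀ (f : Matrix (W ⊕ κ) (W ⊕ κ) C), f = eW W κ C + ∑ a : κ, E C (inr a) → f = 1 := fun f hf => by
      rw [hf, eW_eq, ← Fintype.sum_sum_type (f := fun a => E C a)]
      exact sum_single_one
    have h9 := map_one g
    rw [← h8 _ rfl, map_add, map_sum, Finset.sum_congr rfl fun a _ => (hgE _).trans (bk_inr u a)] at h9
    exact add_right_cancel h9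
  obtain ⟨π', hπ'⟩ := exists_perm (γ := g⁻¹ * γ * g) (inl_of_fix (c.le_SD (TH.mem_cj.1 h3)) (by
    have h7 : γ (eW W κ C) = eW W κ C := h4.2
    rw [ra_mul, ra_mul, h6, h7, ← h6, ra_inv_apply, h6]))
  refine hp z ⟨π', fun a b => γ (single (inl a) (inl b) 1) (inl ((z * y * z⁻¹) a)) (inl ((z * y * z⁻¹) b)),
    fun a => ?_, fun a b l => ?_⟩
  · have h7 := h5 a
    rw [E] at h7
    simp only [h7, E, single_apply_same]
  · have h7 := lin_apply h4.1.2 (h5 a) (h5 b) (g (E C (inl l)))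
    have h8 : γ (g (E C (inl l))) = g (E C (inl (π' l))) := by rw [← hπ', ra_mul, ra_mul, ra_apply_inv]
    rwa [h8, hgE, hgE, bk_apply, bk_apply] at h7

end Mx

end blk

end Cfsg.Agent.TH.Cl.TorLU
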